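import Cfsg.Agent.H44.Rl.RedNum
import Cfsg.Agent.H851.Rl.Tools
import Cfsg.Agent.H592.Rl.Classes9
import Cfsg.Agent.H803.Rl.UNot
import Cfsg.Agent.H803.Rl.Big
import Cfsg.Agent.H813.Rl.ExtSq
import Cfsg.Agent.H294.Rl.Size
import Cfsg.Agent.H951.Rl.Irr
import Cfsg.Agent.H951.Rl.BigN
import Cfsg.Agent.H74.PslF

/-!
# S3691, row `PSL_n(q)`: the reduction for `5 ≤ n ≤ 9` (helper44)

`red_mid` : one of the factors is of type `Pt`. The tables `res_tab`, `res_both` for the residual groups are hypotheses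
`ResTab`, `ResBoth`.
-/

set_option autoImplicit false
set_option linter.style.haveILetI false

namespace Cfsg.Agent.H44.Rl.RedMid

open Cfsg Cfsg.Geo Module Matrix Cfsg.Agent.H728.DghpNum Cfsg.Agent.H454.Reg Cfsg.Agent.H851.Rl Cfsg.Agent.H44.Rl.RedNum
open scoped MatrixGroups

universe u

/-- the table of the residual groups -/
def ResTab : Prop := ∀ {F : Type} [Field F] [Fintype F] {p f n k : ℕ}, 3 ≤ n → n ≤ 9 → n ≤ k + 1 → k ≤ n → p.Prime →
  Fintype.card F = p ^ f → ∀ {u : ℕ}, u.Prime → orderOf ((p : ℕ) : ZMod u) = f * k → ∀ {H : Subgroup (GL (Fin n) F)},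
  IsMaximalIn (specialLinear (Fin n) F) H → InLinearResidualClass H → u ∣ Nat.card H →
    Nat.card H ≤ C9 n k ∧ (n = 4 → f = 1)

/-- residual groups and two primes -/
def ResBoth : Prop := ∀ {F : Type} [Field F] [Fintype F] {p f n k k' : ℕ}, 5 ≤ n → n ≤ 9 → n ≤ k + 1 → k ≤ n →
  n ≤ k' + 1 → k' ≤ n → k ≠ k' → p.Prime → Fintype.card F = p ^ f → (n ≤ 6 → 5 ≤ Fintype.card F) → ∀ {u u' : ℕ},
  u.Prime → orderOf ((p : ℕ) : ZMod u) = f * k → u'.Prime → orderOf ((Fintype.card F : ℕ) : ZMod u') = k' →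
  ∀ {H : Subgroup (GL (Fin n) F)}, IsMaximalIn (specialLinear (Fin n) F) H → InLinearResidualClass H → u ∣ Nat.card H →
    u' ∣ Nat.card H → n = 5 ∧ Nat.card H ≤ 6600

/-! ### classes with bounds -/

section classes

variable {F : Type} [Field F] [Fintype F]

theorem ppd_q {q k u : ℕ} (hk : 1 ≤ k) (hu : u.Prime) (hord : orderOf ((q : ℕ) : ZMod u) = k) : Ppd q k u := by
  refine ⟨hu, hord, fun h => ?_⟩
  have := Fact.mk hu
  have h1 : ((q : ℕ) : ZMod u) = 0 := (ZMod.natCast_eq_zero_iff q u).2 h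
  rw [h1, orderOf_zero] at hord
  omega

theorem one_le_f {p f : ℕ} (hF : Fintype.card F = p ^ f) : 1 ≤ f := Cfsg.Agent.H815.Rl.one_le_of_card hF

/-- the classes, with orders -/
theorem cls (hT : ResTab) {n k p f : ℕ} (hn : 4 ≤ n) (hn9 : n ≤ 9) (hk : n ≤ k + 1) (hkn : k ≤ n) (hp : p.Prime)
    (hF : Fintype.card F = p ^ f) {u : ℕ} (hu : u.Prime) (hord : orderOf ((p : ℕ) : ZMod u) = f * k)
    {R : Subgroup (GL (Fin n) F)} (hR : R ≤ specialLinear (Fin n) F) (hne : ¬ specialLinear (Fin n) F ≤ R)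
    (hud : u ∣ Nat.card R) :
    (k + 1 = n ∧ ∃ W : Submodule F (Fin n → F), (finrank F W = 1 ∨ finrank F W + 1 = n) ∧ R ≤ subspaceStabilizer W) ∨
    (∃ s, s.Prime ∧ s ∣ n ∧ s ∣ k ∧ (Fintype.card F - 1) * Nat.card R ≤ s * Fintype.card F ^ (n ^ 2 / s)) ∨
    (Even k ∧ Even n ∧ Nat.card R ≤ Fintype.card F ^ (n * (n + 1) / 2 + 1)) ∨
    (Even k ∧ Nat.card R ≤ 2 * Fintype.card F ^ (n * (n - 1) / 2 + 1)) ∨
    (Odd k ∧ Uni R) ∨
    (k + 1 = n ∧ u = n ∧ Nat.card R ≤ Fintype.card F ^ (n - 1) * n.factorial) ∨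
    (n = 4 ∧ Nat.card R ≤ 46080) ∨ Nat.card R ≤ C9 n k := by
  haveI : Nonempty (Fin n) := ⟨⟨0, by omega⟩⟩
  have hcle : ∀ {Z : Subgroup (GL (Fin n) F)}, R ≤ Z → Nat.card R ≤ Nat.card Z := fun {Z} h =>
    Nat.le_of_dvd Nat.card_pos (Subgroup.card_dvd_of_le h)
  rcases Cfsg.Agent.H592.Rl.classes9 (by omega) hn9 hk hkn hp hF hu hord hR hne hud with
    h | (⟨s, K, hs, hsn, hsk, hK, hle⟩ | ⟨h1, h2, g, hg, hle⟩ | ⟨h1, Q, hQ, hle⟩ | ⟨h1, σ, g, hg, hle⟩) | h | h | ⟨H, hH, hRH, hS⟩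
  · exact Or.inl h
  · right; left
    rw [Fintype.card_fin] at hsn
    refine ⟨s, hs, hsn, hsk, ?_⟩
    have h1 := Cfsg.Agent.H813.Rl.card_ext_sl hs (by rwa [Fintype.card_fin]) hK
    rw [Fintype.card_fin] at h1
    exact (Nat.mul_le_mul_left _ (hcle (le_inf hle hR))).trans h1
  · right; right; left
    rw [Fintype.card_fin] at h2
    refine ⟨h1, h2, ?_⟩
    have h3 := Cfsg.Agent.H951.Rl.card_sim_le hg
    rw [Fintype.card_fin] at h3
    exact (hcle hle).trans h3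
  · right; right; right; left
    have h3 := Cfsg.Agent.H951.Rl.card_qsim_le hQ
    rw [Fintype.card_fin] at h3
    exact ⟨h1, (hcle hle).trans h3⟩
  · right; right; right; right; left
    exact ⟨h1, σ, g, hg, hle⟩
  · right; right; right; right; right; left
    exact h
  · right; right; right; right; right; right; left
    exact h
  · right; right; right; right; right; right; right
    exact (hcle hRH).trans (hT (by omega) hn9 hk hkn hp hF hu hord hH hS (hud.trans (Subgroup.card_dvd_of_le hRH))).1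

/-- groups with two primes -/
theorem no_both (hB : ResBoth) {n p f k k' : ℕ} (hn : 5 ≤ n) (hn9 : n ≤ 9) (hk : n ≤ k + 1) (hkn : k ≤ n)
    (hk' : n ≤ k' + 1) (hkn' : k' ≤ n) (hne : k ≠ k') (hp : p.Prime) (hF : Fintype.card F = p ^ f)
    (hq : n ≤ 6 → 5 ≤ Fintype.card F) {u u' : ℕ} (hu : u.Prime) (hord : orderOf ((p : ℕ) : ZMod u) = f * k) (hun : u ≠ n)
    (hu' : u'.Prime) (hord' : orderOf ((Fintype.card F : ℕ) : ZMod u') = k')
    (hev : Even k' → orderOf ((p : ℕ) : ZMod u') = f * k')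
    {R : Subgroup (GL (Fin n) F)} (hR : R ≤ specialLinear (Fin n) F) (hnle : ¬ specialLinear (Fin n) F ≤ R)
    (hud : u ∣ Nat.card R) (hud' : u' ∣ Nat.card R) (hsq : u' = n → n ^ 2 ∣ Nat.card R) :
    n = 5 ∧ Nat.card R ≤ 6600 := by
  haveI : Nonempty (Fin n) := ⟨⟨0, by omega⟩⟩
  have hP' : Ppd (Fintype.card F) k' u' := ppd_q (by omega) hu' hord'
  have hdd : ∀ {s : ℕ}, s.Prime → s ∣ n → s ∣ n - 1 → False := by
    intro s hs h1 h2
    have h3 : s ∣ 1 := by
      have h4 := Nat.dvd_sub h1 h2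
      rwa [show n - (n - 1) = 1 by omega] at h4
    exact hs.one_lt.ne' (Nat.dvd_one.1 h3)
  rcases Cfsg.Agent.H592.Rl.classes9 (by omega) hn9 hk hkn hp hF hu hord hR hnle hud with
    ⟨h0, W, hW, hle⟩ | (⟨s, K, hs, hsn, hsk, hK, hle⟩ | ⟨h1, h2, g, hg, hle⟩ | ⟨h1, Q, hQ, hle⟩ | ⟨h1, σ, g, hg, hle⟩) | h | h |
    ⟨H, hH, hRH, hS⟩
  · exfalso
    have h1 : k' = n := by omega
    have h2 := Cfsg.Agent.H951.Rl.dims_of_ppd hP' hud' hle
    rw [Fintype.card_fin] at h2
    omega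
  · exfalso
    rw [Fintype.card_fin] at hsn
    have h1 : k = n := by
      by_contra hkn1
      exact hdd hs hsn (by rwa [show n - 1 = k by omega])
    have h2 : k' = n - 1 := by omega
    rcases ext_dvd' hs hP' (by omega) (by rw [Fintype.card_fin]; omega) hK hle hud' with h3 | h3
    · subst h3
      have h4 : k' < u' := hP'.lt
      have h5 : u' = n := by
        have := Nat.le_of_dvd (by omega) hsn
        omega
      have h6 := Cfsg.Agent.H813.Rl.ext_sq hs (by rw [Fintype.card_fin, h5]) (by omega) hK (by rw [hord', h2, h5])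
      exact h6 (by rw [h5]; exact (hsq h5).trans (Subgroup.card_dvd_of_le hle))
    · exact hdd hs hsn (by rwa [← h2])
  · exfalso
    rw [Fintype.card_fin] at h2
    have h3 : k = n := by
      by_contra hkn1
      rw [show k = n - 1 by omega] at h1
      obtain ⟨a, ha⟩ := h1
      obtain ⟨b, hb⟩ := h2
      omega
    have h4 := sim_even hP' (by omega) (by rw [Fintype.card_fin]; omega) hud' hg.bilinear hg.nondegenerate hle
    obtain ⟨a, ha⟩ := h4
    obtain ⟨b, hb⟩ := h2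
    omega
  · exfalso
    have h4 := qsim_even hP' (by omega) (by rw [Fintype.card_fin]; omega) hud' hQ hle
    obtain ⟨a, ha⟩ := h4
    obtain ⟨b, hb⟩ := h1
    omega
  · exfalso
    have h4 : Even k' := by
      obtain ⟨a, ha⟩ := h1
      rcases Nat.even_or_odd k' with h5 | ⟨b, hb⟩
      · exact h5
      · exfalso; omega
    have h5 := uni_odd hp hF hu' (hev h4) (by omega) (by rw [Fintype.card_fin]; omega) hud' hg hle
    exact (Nat.not_odd_iff_even.2 h4) h5
  · exact absurd h.2.1 hun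
  · omega
  · obtain ⟨h1, h2⟩ := hB hn hn9 hk hkn hk' hkn' hne hp hF hq hu hord hu' hord' hH hS (hud.trans (Subgroup.card_dvd_of_le hRH))
      (hud'.trans (Subgroup.card_dvd_of_le hRH))
    exact ⟨h1, (Nat.le_of_dvd Nat.card_pos (Subgroup.card_dvd_of_le hRH)).trans h2⟩

end classes

section main

variable {G : Type u} [Group G] [Finite G] {T X Y : Subgroup G} {n : ℕ} {F : Type} [Field F] [Fintype F]

theorem ineq (h : Fac T X Y) (hn : 3 ≤ n) (e : T ≃* Matrix.ProjectiveSpecialLinearGroup (Fin n) F) {p f : ℕ} (hp : p.Prime)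
    (hF : Fintype.card F = p ^ f) :
    Fintype.card F ^ (n ^ 2 - 2) ≤ 2 * (Nat.card (pg e X) * Nat.card (pg e Y)) := by
  have h1 := Cfsg.Agent.H815.Rl.card_le_pg h hn e hp hF
  have h2 := Cfsg.Agent.H294.Rl.sl_ge (F := F) (n := n) (by omega)
  have hf : 2 * f ≤ Fintype.card F := by rw [hF]; exact two_mul_le hp.two_le
  have h3 : n ^ 2 - 1 = n ^ 2 - 2 + 1 := by
    have : 9 ≤ n ^ 2 := by nlinarith
    omega
  rw [h3, pow_succ] at h2
  refine Nat.le_of_mul_le_mul_right ?_ (Fintype.card_pos : 0 < Fintype.card F)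
  calc Fintype.card F ^ (n ^ 2 - 2) * Fintype.card F ≤ _ := h2
    _ ≤ 2 * (2 * f * Nat.card (pg e X) * Nat.card (pg e Y)) := Nat.mul_le_mul_left _ h1
    _ = 2 * f * (2 * (Nat.card (pg e X) * Nat.card (pg e Y))) := by ring
    _ ≤ Fintype.card F * (2 * (Nat.card (pg e X) * Nat.card (pg e Y))) := Nat.mul_le_mul_right _ hf
    _ = _ := by ring

theorem not_small (h : Fac T X Y) (e : T ≃* Matrix.ProjectiveSpecialLinearGroup (Fin 5) F) {p f : ℕ} (hp : p.Prime)
    (hF : Fintype.card F = p ^ f) (hX : Nat.card (pg e X) ≤ 6600) : False := by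
  have hq : 20 ≤ Fintype.card F := (Cfsg.Agent.H294.Rl.q_ge h (by norm_num) e).2.2.1 rfl
  have h1 := Cfsg.Agent.H815.Rl.card_le_pg h (by norm_num) e hp hF
  have hf : 2 * f ≤ Fintype.card F := by rw [hF]; exact two_mul_le hp.two_le
  set q := Fintype.card F with hqd
  let H : Subgroup (Matrix.SpecialLinearGroup (Fin 5) F) :=
    (pg e Y).comap (Matrix.SpecialLinearGroup.toGL (n := Fin 5) (R := F))
  have hH : H ≠ ⊤ := by
    intro h2
    apply not_sl_le e h.not_le_right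
    rw [← Cfsg.Agent.H304.PslT.range_toGL]
    rintro _ ⟨g, rfl⟩
    have h3 : g ∈ H := by rw [h2]; exact Subgroup.mem_top g
    exact h3
  have h2 := Cfsg.Agent.H74.Psl.min_index (F := F) (n := 5) (q := q) rfl (by norm_num) (by omega) H hH
  have h3 : Nat.card H = Nat.card (pg e Y) := by
    have h4 : (H.map (Matrix.SpecialLinearGroup.toGL (n := Fin 5) (R := F))) = pg e Y := by
      rw [Subgroup.map_comap_eq, Cfsg.Agent.H304.PslT.range_toGL]
      exact inf_eq_right.2 (pg_le e Y)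
    rw [← h4, Subgroup.card_map_of_injective Cfsg.Agent.H304.PslT.toGL_injective]
  have h4 : Nat.card (specialLinear (Fin 5) F) = Nat.card (Matrix.SpecialLinearGroup (Fin 5) F) := by
    rw [← Cfsg.Agent.H304.PslT.range_toGL]
    exact (Nat.card_congr (MonoidHom.ofInjective Cfsg.Agent.H304.PslT.toGL_injective).toEquiv).symm
  have h5 := H.card_mul_index
  rw [← h4, h3] at h5
  have h6 : H.index ≤ q * 6600 := by
    refine Nat.le_of_mul_le_mul_left ?_ (Nat.card_pos : 0 < Nat.card (pg e Y))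
    rw [h5]
    calc _ ≤ _ := h1
      _ ≤ q * 6600 * Nat.card (pg e Y) := Nat.mul_le_mul_right _ (Nat.mul_le_mul hf hX)
      _ = _ := by ring
  have h7 : q ^ 4 ≤ (q ^ 5 - 1) / (q - 1) := by
    rw [Nat.le_div_iff_mul_le (by omega)]
    obtain ⟨r, hr⟩ : ∃ r, q = r + 1 := ⟨q - 1, by omega⟩
    rw [hr, Nat.add_sub_cancel]
    have h8 : (r + 1) ^ 5 = (r + 1) ^ 4 * r + (r + 1) ^ 4 := by ring
    have h9 : 1 ≤ (r + 1) ^ 4 := Nat.one_le_pow _ _ (by omega)
    omega
  have h8 : q ^ 4 ≤ q * 6600 := h7.trans (h2.trans h6)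
  have h9 : q ^ 3 ≤ 6600 := by
    refine Nat.le_of_mul_le_mul_left ?_ (show 0 < q by omega)
    calc q * q ^ 3 = q ^ 4 := by ring
      _ ≤ _ := h8
  have h10 : 20 ^ 3 ≤ q ^ 3 := Nat.pow_le_pow_left hq 3
  norm_num at h10
  omega

/-- no factor is divisible by both primes -/
theorem nb (hB : ResBoth) (h : Fac T X Y) (hn : 5 ≤ n) (hn9 : n ≤ 9) (e : T ≃* Matrix.ProjectiveSpecialLinearGroup (Fin n) F)
    {p f k k' : ℕ} (hk : n ≤ k + 1) (hkn : k ≤ n)
    (hk' : n ≤ k' + 1) (hkn' : k' ≤ n) (hne : k ≠ k') (hp : p.Prime) (hF : Fintype.card F = p ^ f)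
    {u u' : ℕ} (hu : u.Prime) (hord : orderOf ((p : ℕ) : ZMod u) = f * k) (hun : u ≠ n)
    (hu' : u'.Prime) (hord' : orderOf ((Fintype.card F : ℕ) : ZMod u') = k')
    (hev : Even k' → orderOf ((p : ℕ) : ZMod u') = f * k')
    (hud : u ∣ Nat.card (pg e X)) (hud' : u' ∣ Nat.card (pg e X)) (hsq : u' = n → n ^ 2 ∣ Nat.card (pg e X)) : False := by
  have hq := Cfsg.Agent.H294.Rl.q_ge h (by omega) e
  obtain ⟨rfl, h1⟩ := no_both hB hn hn9 hk hkn hk' hkn' hne hp hF (fun h6 => by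
    have h5 := hq.2.2.1
    have h6 := hq.2.2.2.1
    omega) hu hord hun hu' hord' hev (pg_le e X) (not_sl_le e h.not_le_left) hud hud' hsq
  exact not_small h e hp hF h1

theorem qb (h : Fac T X Y) (hn : 5 ≤ n) (e : T ≃* Matrix.ProjectiveSpecialLinearGroup (Fin n) F)
    (h57 : ¬ (n = 7 ∧ Fintype.card F = 5)) : QB n (Fintype.card F) := by
  have hq := Cfsg.Agent.H294.Rl.q_ge h (by omega) e
  exact ⟨hq.2.2.1, hq.2.2.2.1, fun h7 => by have := hq.2.2.2.2.1 h7; omega, hq.2.2.2.2.2.1, hq.2.2.2.2.2.2.1⟩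

/-- unitary groups: the prime -/
theorem kill' (h : Fac T X Y) (hn : 5 ≤ n) (hn9 : n ≤ 9) (e : T ≃* Matrix.ProjectiveSpecialLinearGroup (Fin n) F) {p f k : ℕ}
    (hp : p.Prime) (hF : Fintype.card F = p ^ f) (hk : n ≤ k + 1) (hkn : k ≤ n) (hodd : Odd k)
    {ι : Type} [Fintype ι] [DecidableEq ι] (hι : Fintype.card ι < 2 * k) (hι2 : 2 ≤ Fintype.card ι)
    {R : Subgroup (GL ι F)} (hR : Uni R) :
    2 ≤ f ∧ ∃ r : ℕ, r.Prime ∧ Ppd (Fintype.card F) k r ∧ (r ∣ Nat.card (pg e X) ∨ r ∣ Nat.card (pg e Y)) ∧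
      ¬ r ∣ Nat.card R := by
  obtain ⟨σ, g, hg, hle⟩ := hR
  obtain ⟨-, f₀, hf₀, -⟩ := exists_half hp hF hg.ne_refl hg.involutive
  have hf1 := one_le_f hF
  have hF' : Fintype.card F = p ^ (2 * f₀) := by rw [hF, hf₀]
  obtain ⟨r, hr, h1, h2, h3⟩ := kill h (by omega) e hp hF' (by omega) hkn hodd (by
    rintro ⟨-, h6⟩
    obtain ⟨a, ha⟩ := hodd
    rcases Nat.eq_zero_or_pos f₀ with h0 | h0
    · omega
    · have h7 : k ≤ 6 := by nlinarith
      have h8 : k = 5 := by omega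
      subst h8
      omega)
  refine ⟨by omega, r, hr, h2, h3, fun hd => ?_⟩
  exact Cfsg.Agent.H803.Rl.u_not2 hg (q₀ := p ^ f₀) (by rw [hF', ← pow_mul, mul_comm]) hr h1 hodd hι hι2
    (hd.trans (Subgroup.card_dvd_of_le hle))

/-- `|S| = c |S ∩ SL|`, `c ∣ q - 1` -/
theorem card_sl_part {ι : Type} [Fintype ι] [DecidableEq ι] (S : Subgroup (GL ι F)) :
    ∃ c, c ∣ Fintype.card F - 1 ∧ c * Nat.card (S ⊓ specialLinear ι F : Subgroup (GL ι F)) = Nat.card S := by
  classical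
  let d : S →* Fˣ := (Matrix.GeneralLinearGroup.det : GL ι F →* Fˣ).comp S.subtype
  have h1 := d.ker.card_mul_index
  rw [Subgroup.index_ker] at h1
  have h3 : Nat.card d.ker = Nat.card (S ⊓ specialLinear ι F : Subgroup (GL ι F)) := by
    refine Nat.card_congr
      { toFun := fun x => ⟨x.1.1, x.1.2, x.2⟩
        invFun := fun x => ⟨⟨x.1, x.2.1⟩, x.2.2⟩
        left_inv := fun x => rfl
        right_inv := fun x => rfl }
  refine ⟨Nat.card d.range, ?_, ?_⟩
  · have h4 := Subgroup.card_subgroup_dvd_card d.range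
    rwa [Nat.card_units, Nat.card_eq_fintype_card (α := F)] at h4
  · rw [← h1, h3, mul_comm]

/-- the full part -/
theorem side' (h : Fac T X Y) (hn : 5 ≤ n) (e : T ≃* Matrix.ProjectiveSpecialLinearGroup (Fin n) F) {p f k r : ℕ}
    (hp : p.Prime) (hF : Fintype.card F = p ^ f) (hk : n ≤ k + 1) (hkn : k ≤ n) (hr : r.Prime)
    (hord : orderOf ((p : ℕ) : ZMod r) = f * k) :
    (∀ a, r ^ a ∣ Fintype.card F ^ k - 1 → r ^ a ∣ Nat.card (pg e X)) ∨
      (∀ a, r ^ a ∣ Fintype.card F ^ k - 1 → r ^ a ∣ Nat.card (pg e Y)) := by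
  have hf := one_le_f hF
  have hP := ppd_of hp hf hF hr hord (by omega)
  have hlt : f * k < r := (ppd_q (q := p) (Nat.mul_pos hf (by omega)) hr hord).lt
  have hrf : ¬ r ∣ 2 * f := by
    intro hd
    have h1 := Nat.le_of_dvd (by omega) hd
    nlinarith
  have hne : Fintype.card F ^ k - 1 ≠ 0 := by
    have h1 : 1 < Fintype.card F ^ k := Nat.one_lt_pow (by omega) Fintype.one_lt_card
    omega
  have key : ∀ a, r ^ a ∣ Fintype.card F ^ k - 1 → r ^ a ∣ r ^ (Fintype.card F ^ k - 1).factorization r := fun a ha =>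
    pow_dvd_pow r ((hr.pow_dvd_iff_le_factorization hne).1 ha)
  rcases Cfsg.Agent.H815.Rl.side h (by omega) e hp hF hr hP.ord (by omega) hkn hrf with h1 | h1
  · exact Or.inl fun a ha => (key a ha).trans h1.1
  · exact Or.inr fun a ha => (key a ha).trans h1.1

/-- the factor with the prime for `n` -/
theorem x_bound (hT : ResTab) (hB : ResBoth) (h : Fac T X Y) (hn : 5 ≤ n) (hn9 : n ≤ 9)
    (e : T ≃* Matrix.ProjectiveSpecialLinearGroup (Fin n) F) (h57 : ¬ (n = 7 ∧ Fintype.card F = 5)) {p f : ℕ} (hp : p.Prime)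
    (hF : Fintype.card F = p ^ f) {r u : ℕ} (hr : r.Prime) (hrord : orderOf ((p : ℕ) : ZMod r) = f * n)
    (hu : u.Prime) (huord : orderOf ((p : ℕ) : ZMod u) = f * (n - 1))
    (hrX : r ∣ Nat.card (pg e X)) (huY : u ∣ Nat.card (pg e Y)) : Nat.card (pg e X) ≤ Fintype.card F ^ aN n := by
  refine num_x hn hn9 Nat.card_pos (qb h hn e h57) ?_
  rcases cls hT (by omega) hn9 (by omega) le_rfl hp hF hr hrord (pg_le e X) (not_sl_le e h.not_le_left) hrX with
    h1 | ⟨s, hs, hsn, -, h1⟩ | ⟨h1, h2, h3⟩ | ⟨h1, h2⟩ | ⟨h1, h2⟩ | h1 | h1 | h1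
  · omega
  · exact Or.inl ⟨s, hs, hsn, h1⟩
  · exact Or.inr (Or.inl ⟨h2, h3⟩)
  · exact Or.inr (Or.inr (Or.inl ⟨h1, h2⟩))
  · exfalso
    obtain ⟨hf2, r', hr', hP', h3, h4⟩ := kill' h hn hn9 e hp hF (by omega) le_rfl h1 (by rw [Fintype.card_fin]; omega)
      (by rw [Fintype.card_fin]; omega) h2
    have h5 : r' ∣ Nat.card (pg e Y) := h3.resolve_left h4
    have hlt : f * (n - 1) < u := (ppd_q (q := p) (Nat.mul_pos (by omega) (by omega)) hu huord).lt
    have hun : u ≠ n := by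
      have : 2 * (n - 1) ≤ f * (n - 1) := Nat.mul_le_mul_right _ hf2
      omega
    exact nb hB h.symm hn hn9 e (k := n - 1) (k' := n) (by omega) (by omega) (by omega) le_rfl (by omega) hp hF hu huord hun
      hr' hP'.ord (fun hev => absurd hev (Nat.not_even_iff_odd.2 h1)) huY h5 (fun h6 => by have := hP'.lt; omega)
  · omega
  · omega
  · exact Or.inr (Or.inr (Or.inr h1))

/-- the factor with the prime for `n - 1` -/
theorem y_bound (hT : ResTab) (hB : ResBoth) (h : Fac T X Y) (hn : 5 ≤ n) (hn9 : n ≤ 9)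
    (e : T ≃* Matrix.ProjectiveSpecialLinearGroup (Fin n) F) (h57 : ¬ (n = 7 ∧ Fintype.card F = 5)) {p f : ℕ} (hp : p.Prime)
    (hF : Fintype.card F = p ^ f) {r u : ℕ} (hr : r.Prime) (hrord : orderOf ((p : ℕ) : ZMod r) = f * n)
    (hu : u.Prime) (huord : orderOf ((p : ℕ) : ZMod u) = f * (n - 1))
    (hrX : r ∣ Nat.card (pg e X)) (huY : u ∣ Nat.card (pg e Y)) :
    (∃ (e' : T ≃* Matrix.ProjectiveSpecialLinearGroup (Fin n) F) (v : Fin n → F), Pt (pg e' Y) v) ∨
      2 * Nat.card (pg e Y) < Fintype.card F ^ bN n := by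
  have hqb := qb h hn e h57
  have hf := one_le_f hF
  have hlt : f * n < r := (ppd_q (q := p) (Nat.mul_pos hf (by omega)) hr hrord).lt
  have hrn : r ≠ n := by
    have : 1 * n ≤ f * n := Nat.mul_le_mul_right _ hf
    omega
  -- a `q`-primitive prime for `n - 1` (odd) does not divide `|X|`
  have hX : ∀ {r' : ℕ}, Odd (n - 1) → r'.Prime → Ppd (Fintype.card F) (n - 1) r' → ¬ r' ∣ Nat.card (pg e X) := by
    intro r' hodd hr' hP' hd
    refine nb hB h hn hn9 e (k := n) (k' := n - 1) (by omega) le_rfl (by omega) (by omega) (by omega) hp hF hr hrord hrn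
      hr' hP'.ord (fun hev => absurd hev (Nat.not_even_iff_odd.2 hodd)) hrX hd (fun h6 => ?_)
    exfalso
    subst h6
    rcases hr'.eq_two_or_odd' with h7 | ⟨a, ha⟩
    · omega
    · obtain ⟨b, hb⟩ := hodd
      omega
  rcases cls hT (k := n - 1) (by omega) hn9 (by omega) (by omega) hp hF hu huord (pg_le e Y) (not_sl_le e h.not_le_right) huY with
    ⟨h0, W, hW, hle⟩ | ⟨s, hs, hsn, hsn', h1⟩ | ⟨h1, h2, h3⟩ | ⟨h1, h2⟩ | ⟨h1, h2⟩ | ⟨h1, h2, h3⟩ | h1 | h1
  · obtain ⟨e', v, hv, hfix, hcard⟩ := point_of (by omega) e Y hW hle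
    by_cases hPt : Pt (pg e' Y) v
    · exact Or.inl ⟨e', v, hPt⟩
    right
    obtain ⟨m, rfl⟩ : ∃ m, n = m + 1 := ⟨n - 1, by omega⟩
    rw [Nat.add_sub_cancel] at huord hX
    obtain ⟨S, hSne, hS1, hS2⟩ := block_card hv (pg_le e' Y) hfix hPt
    rw [hcard] at hS1 hS2
    obtain ⟨c, hc1, hc2⟩ := card_sl_part S
    have hq1 : 1 < Fintype.card F := Fintype.one_lt_card
    -- a primitive prime dividing the order of the block
    have hblock : ∀ {r' : ℕ}, Ppd (Fintype.card F) m r' → r' ∣ Nat.card (pg e Y) →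
        r' ∣ Nat.card (S ⊓ specialLinear (Fin m) F : Subgroup (GL (Fin m) F)) := by
      intro r' hP' hd
      have h1 := hS2 r' 1 hP'.prime hP'.ndvd (by rwa [pow_one])
      rw [pow_one, ← hc2, hP'.prime.dvd_mul] at h1
      rcases h1 with h1 | h1
      · exfalso
        have h2 := (hP'.dvd_iff 1).1 (by rw [pow_one]; exact h1.trans hc1)
        have h3 := Nat.le_of_dvd one_pos h2
        omega
      · exact h1
    have huP : Ppd (Fintype.card F) m u := ppd_of hp hf hF hu huord (by omega)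
    have huS := hblock huP huY
    rw [← hcard] at hS1
    have hc3 : Nat.card S ≤ (Fintype.card F - 1) *
        Nat.card (S ⊓ specialLinear (Fin m) F : Subgroup (GL (Fin m) F)) := by
      rw [← hc2]
      exact Nat.mul_le_mul_right _ (Nat.le_of_dvd (by omega) hc1)
    have hne : ¬ specialLinear (Fin m) F ≤ S ⊓ specialLinear (Fin m) F := fun h1 => hSne (h1.trans inf_le_left)
    rw [hcard] at hS1
    refine num_y1 (S := Nat.card S) (S₀ := Nat.card (S ⊓ specialLinear (Fin m) F : Subgroup (GL (Fin m) F))) hn hn9 hqb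
      Nat.card_pos (by rw [Nat.add_sub_cancel]; exact hS1) hc3 ?_
    rw [Nat.add_sub_cancel]
    rcases cls hT (n := m) (k := m) (by omega) (by omega) (by omega) le_rfl hp hF hu huord inf_le_right hne huS with
      h1 | ⟨s, hs, hsn, -, h1⟩ | ⟨h1, h2, h3⟩ | ⟨h1, h2⟩ | ⟨h1, h2⟩ | h1 | h1 | h1
    · omega
    · exact Or.inl ⟨s, hs, hsn, h1⟩
    · exact Or.inr (Or.inl ⟨h2, h3⟩)
    · exact Or.inr (Or.inr (Or.inl ⟨h1, h2⟩))
    · exfalso
      obtain ⟨hf2, r', hr', hP', h3, h4⟩ := kill' h hn hn9 e hp hF (k := m) (by omega) (by omega) h1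
        (by rw [Fintype.card_fin]; omega) (by rw [Fintype.card_fin]; omega) h2
      rcases h3 with h3 | h3
      · exact hX h1 hr' hP' h3
      · exact h4 (hblock hP' h3)
    · omega
    · exact Or.inr (Or.inr (Or.inr (Or.inl h1)))
    · exact Or.inr (Or.inr (Or.inr (Or.inr h1)))
  · exfalso
    have h3 : s ∣ 1 := by
      have h4 := Nat.dvd_sub hsn hsn'
      rwa [show n - (n - 1) = 1 by omega] at h4
    exact hs.one_lt.ne' (Nat.dvd_one.1 h3)
  · exfalso
    obtain ⟨a, ha⟩ := h1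
    obtain ⟨b, hb⟩ := h2
    omega
  · exact Or.inr (num_y2 hn hn9 hqb (Or.inl ⟨h1, h2⟩))
  · exfalso
    obtain ⟨hf2, r', hr', hP', h3, h4⟩ := kill' h hn hn9 e hp hF (k := n - 1) (by omega) (by omega) h1
      (by rw [Fintype.card_fin]; omega) (by rw [Fintype.card_fin]; omega) h2
    exact hX h1 hr' hP' (h3.resolve_right h4)
  · exact Or.inr (num_y2 hn hn9 hqb (Or.inr (Or.inl ⟨h2 ▸ hu, h3⟩)))
  · omega
  · exact Or.inr (num_y2 hn hn9 hqb (Or.inr (Or.inr h1)))

theorem main_aux (hT : ResTab) (hB : ResBoth) (h : Fac T X Y) (hn : 5 ≤ n) (hn9 : n ≤ 9)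
    (e : T ≃* Matrix.ProjectiveSpecialLinearGroup (Fin n) F) (h57 : ¬ (n = 7 ∧ Fintype.card F = 5)) {p f : ℕ} (hp : p.Prime)
    (hF : Fintype.card F = p ^ f) {r u : ℕ} (hr : r.Prime) (hrord : orderOf ((p : ℕ) : ZMod r) = f * n)
    (hu : u.Prime) (huord : orderOf ((p : ℕ) : ZMod u) = f * (n - 1))
    (hrX : r ∣ Nat.card (pg e X)) (huY : u ∣ Nat.card (pg e Y)) :
    ∃ (e' : T ≃* Matrix.ProjectiveSpecialLinearGroup (Fin n) F) (v : Fin n → F), Pt (pg e' Y) v := by
  rcases y_bound hT hB h hn hn9 e h57 hp hF hr hrord hu huord hrX huY with h1 | h1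
  · exact h1
  · exfalso
    have hqb := qb h hn e h57
    have hq2 : 3 ≤ Fintype.card F := by
      have := hqb.h5; have := hqb.h6; have := hqb.h7; have := hqb.h8; have := hqb.h9
      omega
    exact num_fin hn hn9 hq2 (ineq h (by omega) e hp hF) (x_bound hT hB h hn hn9 e h57 hp hF hr hrord hu huord hrX huY) h1

end main

/-! ### the prime for `n - 1` -/

theorem order_four {p u : ℕ} (hu : u.Prime) (hu2 : u ≠ 2) (hd : u ∣ p ^ 2 + 1) : orderOf ((p : ℕ) : ZMod u) = 4 := by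
  have := Fact.mk hu
  have h1 : ((p : ℕ) : ZMod u) ^ 2 = -1 := by
    have h2 : ((p ^ 2 + 1 : ℕ) : ZMod u) = 0 := (ZMod.natCast_eq_zero_iff _ u).2 hd
    push_cast at h2
    exact eq_neg_of_add_eq_zero_left h2
  have h3 : (-1 : ZMod u) ≠ 1 := by
    have := Fact.mk (lt_of_le_of_ne hu.two_le (Ne.symm hu2))
    exact ZMod.neg_one_ne_one
  have h4 := orderOf_eq_prime_pow (x := ((p : ℕ) : ZMod u)) (p := 2) (n := 1) (by rw [pow_one, h1]; exact h3)
    (by rw [show 2 ^ (1 + 1) = 2 * 2 by norm_num, pow_mul, h1]; ring)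
  rw [h4]
  norm_num

theorem exists_u5 {p : ℕ} (hp : p.Prime) (hp20 : 20 ≤ p) : ∃ u : ℕ, u.Prime ∧ orderOf ((p : ℕ) : ZMod u) = 4 ∧
    (u = 5 → 5 ^ 2 ∣ p ^ 4 - 1) := by
  obtain ⟨a, ha⟩ : Odd p := hp.odd_of_ne_two (by omega)
  have h1 : p ^ 2 + 1 = 2 * (2 * (a ^ 2 + a) + 1) := by rw [ha]; ring
  set m := 2 * (a ^ 2 + a) + 1 with hm
  have hm5 : 5 < m := by nlinarith
  have h14 : p ^ 4 - 1 = (p ^ 2 + 1) * (p ^ 2 - 1) := by
    have h5 : 1 ≤ p ^ 2 := Nat.one_le_pow _ _ (by omega)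
    obtain ⟨b, hb⟩ : ∃ b, p ^ 2 = b + 1 := ⟨p ^ 2 - 1, by omega⟩
    have h6 : p ^ 4 = (b + 1) * (b + 1) := by rw [← hb]; ring
    rw [h6, hb, Nat.add_sub_cancel]
    have h7 : (b + 1) * (b + 1) = (b + 1 + 1) * b + 1 := by ring
    omega
  have hodd : ∀ {u : ℕ}, u.Prime → u ∣ m → u ≠ 2 := by
    rintro u - hd rfl
    omega
  by_cases h5 : ∃ u : ℕ, u.Prime ∧ u ∣ m ∧ u ≠ 5
  · obtain ⟨u, hu, hd, hu5⟩ := h5
    exact ⟨u, hu, order_four hu (hodd hu hd) (by rw [h1]; exact hd.mul_left 2), fun h => absurd h hu5⟩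
  · push Not at h5
    have h6 : m = 5 ^ m.primeFactorsList.length := Nat.eq_prime_pow_of_unique_prime_dvd (by omega) (fun {d} hd hdm => h5 d hd hdm)
    have h7 : 2 ≤ m.primeFactorsList.length := by
      by_contra hlt
      have h8 : 5 ^ m.primeFactorsList.length ≤ 5 ^ 1 := Nat.pow_le_pow_right (by norm_num) (by omega)
      omega
    have h8 : 5 ^ 2 ∣ m := by rw [h6]; exact pow_dvd_pow 5 h7
    refine ⟨5, by norm_num, order_four (by norm_num) (by norm_num) ?_, fun _ => ?_⟩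
    · rw [h1]
      exact ((show 5 ∣ 5 ^ 2 by norm_num).trans h8).mul_left 2
    · rw [h14, h1]
      exact (h8.mul_left 2).mul_right _

theorem exists_u7 {p : ℕ} (hp : p.Prime) (hp6 : 6 ≤ p) : ∃ u : ℕ, u.Prime ∧ orderOf ((p : ℕ) : ZMod u) = 6 ∧
    (u = 7 → 7 ^ 2 ∣ p ^ 6 - 1) := by
  by_cases h17 : p = 17
  · subst h17
    refine ⟨13, by norm_num, ?_, fun h => by omega⟩
    exact Cfsg.Agent.H951.Rl.ord_of_prim (by norm_num) (by norm_num) (by norm_num)
      (by intro i h1 h2; interval_cases i <;> norm_num)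
  · obtain ⟨r, hr⟩ := Cfsg.Agent.H803.Rl.exists_big (p := p) (f := 1) (k := 6) hp le_rfl le_rfl (by
      simp only [List.mem_cons, Prod.mk.injEq, List.not_mem_nil, or_false]
      omega)
    refine ⟨r, hr.prime, by rw [hr.ord], fun h7 => ?_⟩
    subst h7
    have h1 := hr.dvd
    have h2 := hr.big
    simp only [pow_one] at h1 h2
    refine (pow_dvd_pow 7 ?_).trans h1
    by_contra hlt
    have h3 : 7 ^ ((p ^ 6 - 1).factorization 7) ≤ 7 ^ 1 := Nat.pow_le_pow_right (by norm_num) (by omega)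
    omega

theorem exists_u {n p f : ℕ} (hn : 5 ≤ n) (hn9 : n ≤ 9) (hp : p.Prime) (hf : 1 ≤ f) (hq : QB n (p ^ f)) :
    ∃ u : ℕ, u.Prime ∧ orderOf ((p : ℕ) : ZMod u) = f * (n - 1) ∧ (u = n → n ^ 2 ∣ (p ^ f) ^ (n - 1) - 1) := by
  rcases Nat.lt_or_ge 1 f with hf2 | hf1
  · have h1 : 2 * (n - 1) ≤ f * (n - 1) := Nat.mul_le_mul_right _ hf2
    obtain ⟨u, hu⟩ := exists_ppd (q := p) (e := f * (n - 1)) hp.two_le (by omega) (by omega)
    have := hu.lt
    exact ⟨u, hu.prime, hu.ord, fun h => by omega⟩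
  · have hf' : f = 1 := by omega
    subst hf'
    rw [pow_one, one_mul]
    rw [pow_one] at hq
    by_cases h5 : n = 5
    · subst h5
      exact exists_u5 hp (hq.h5 rfl)
    by_cases h7 : n = 7
    · subst h7
      exact exists_u7 hp (hq.h7 rfl)
    obtain ⟨u, hu⟩ := exists_ppd (q := p) (e := n - 1) hp.two_le (by omega) (by omega)
    refine ⟨u, hu.prime, hu.ord, fun h => ?_⟩
    exfalso
    have h1 := hu.prime
    rw [h] at h1
    interval_cases n <;> first | omega | (revert h1; norm_num)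

section final

variable {G : Type u} [Group G] [Finite G] {T : Subgroup G} {n : ℕ} {F : Type} [Field F] [Fintype F]

/-- **the reduction for `5 ≤ n ≤ 9`** -/
theorem red_mid (hT : ResTab) (hB : ResBoth) {X Y : Subgroup G} (h : Fac T X Y) (hn : 5 ≤ n) (hn9 : n ≤ 9)
    (h57 : ¬ (n = 7 ∧ Fintype.card F = 5)) (e : T ≃* Matrix.ProjectiveSpecialLinearGroup (Fin n) F) :
    ∃ (e' : T ≃* Matrix.ProjectiveSpecialLinearGroup (Fin n) F) (v : Fin n → F), Pt (pg e' X) v ∨ Pt (pg e' Y) v := by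
  obtain ⟨p, -, ⟨f, hf0⟩, hp, hF⟩ := FiniteField.card' F
  replace hF : Fintype.card F = p ^ f := hF
  have hf : 1 ≤ f := hf0
  have hqb := qb h hn e h57
  obtain ⟨r, hr⟩ := exists_ppd (q := p) (e := f * n) hp.two_le (by nlinarith) (by
    rintro ⟨rfl, h6⟩
    have h7 : f = 1 ∧ n = 6 := by
      have h8 : f < 2 := by
        by_contra hlt
        have : 2 * n ≤ f * n := Nat.mul_le_mul_right _ (by omega)
        omega
      have h9 : f = 1 := by omega
      subst h9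
      exact ⟨rfl, by omega⟩
    have h8 := hqb.h6 h7.2
    rw [hF, h7.1] at h8
    omega)
  have hrord := hr.ord
  have hrn : r ≠ n := by
    have h1 := hr.lt
    have : 1 * n ≤ f * n := Nat.mul_le_mul_right _ hf
    omega
  obtain ⟨u, hu, huord, hun⟩ := exists_u hn hn9 hp hf (hF ▸ hqb)
  have hrP : Ppd (Fintype.card F) n r := ppd_of hp hf hF hr.prime hrord (by omega)
  have huP : Ppd (Fintype.card F) (n - 1) u := ppd_of hp hf hF hu huord (by omega)
  have hr1 : r ^ 1 ∣ Fintype.card F ^ n - 1 := by rw [pow_one]; exact (hrP.dvd_iff n).2 dvd_rfl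
  have hu1 : u ^ 1 ∣ Fintype.card F ^ (n - 1) - 1 := by rw [pow_one]; exact (huP.dvd_iff (n - 1)).2 dvd_rfl
  have hu2 : u = n → u ^ 2 ∣ Fintype.card F ^ (n - 1) - 1 := fun h1 => by rw [hF, h1]; exact hun h1
  rcases side' h hn e hp hF (k := n) (by omega) le_rfl hr.prime hrord with hrX | hrY
  · have h1 : r ∣ Nat.card (pg e X) := by simpa using hrX 1 hr1
    rcases side' h hn e hp hF (k := n - 1) (by omega) (by omega) hu huord with huX | huY
    · exfalso
      exact nb hB h hn hn9 e (k := n) (k' := n - 1) (by omega) le_rfl (by omega) (by omega) (by omega) hp hF hr.prime hrord hrn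
        hu huP.ord (fun _ => huord) h1 (by simpa using huX 1 hu1) (fun h2 => by have h3 := huX 2 (hu2 h2); rwa [h2] at h3)
    · obtain ⟨e', v, h2⟩ := main_aux hT hB h hn hn9 e h57 hp hF hr.prime hrord hu huord h1 (by simpa using huY 1 hu1)
      exact ⟨e', v, Or.inr h2⟩
  · have h1 : r ∣ Nat.card (pg e Y) := by simpa using hrY 1 hr1
    rcases side' h hn e hp hF (k := n - 1) (by omega) (by omega) hu huord with huX | huY
    · obtain ⟨e', v, h2⟩ := main_aux hT hB h.symm hn hn9 e h57 hp hF hr.prime hrord hu huord h1 (by simpa using huX 1 hu1)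
      exact ⟨e', v, Or.inl h2⟩
    · exfalso
      exact nb hB h.symm hn hn9 e (k := n) (k' := n - 1) (by omega) le_rfl (by omega) (by omega) (by omega) hp hF hr.prime hrord
        hrn hu huP.ord (fun _ => huord) h1 (by simpa using huY 1 hu1) (fun h2 => by have h3 := huY 2 (hu2 h2); rwa [h2] at h3)

end final

end Cfsg.Agent.H44.Rl.RedMid
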